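import Cfsg.Agent.Lib.Helper10.J3M.Words
import Cfsg.Agent.Lib.Helper10.J3M.Two
import Cfsg.Agent.Lib.Helper10.J3M.Three
import Cfsg.Agent.Lib.Helper9.SchurOdd

/-!
The Schur multiplier of the third Janko group: facts on the group.
-/

set_option autoImplicit false

namespace Cfsg.Agent.Lib.Helper10.J3

open Cfsg Cfsg.Spor Matrix Subgroup Cfsg.Agent.Lib.Helper9 Cfsg.Agent.Lib.Helper10.TCS

theorem vcyc : (isOne (dC jf) (dC jf) (dC jf) [2] 5 && (notProp (appPk (dC jf) (dC jf) (dC jf) [2] 1 2) 2 &&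
    (isOne (dC jz) (dC jf) (dY mg) [0, 1, 2, 1, 1, 1, 2] 17 &&
    (notProp (appPk (dC jz) (dC jf) (dY mg) [0, 1, 2, 1, 1, 1, 2] 1 1) 1 &&
    (isOne uC uC uC [2] 19 && notProp (appPk uC uC uC [2] 1 1) 1))))) = true := by decide +kernel

theorem vcomm : (eqMul wC (gC 2 1) 0x8000804010000040000020080000200020000400 &&
    eqMul3 (gC 0 1) (gC 2 1) 0x8000804010000040000020080000200020000400 (gC 0 1)) = true := by decide +kernel

theorem cond_lt {b : Bool} {x y n : ℕ} (hx : x < n) (hy : y < n) : cond b x y < n := by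
  cases b
  · exact hy
  · exact hx

theorem jL2_lt (l : ℕ) : jL2 l < nC :=
  cond_lt (by decide) (cond_lt (by decide) (cond_lt (by decide) (cond_lt (by decide) (cond_lt (by decide)
    (cond_lt (by decide) (cond_lt (by decide) (cond_lt (by decide) (by decide))))))))

theorem jL3_lt (l : ℕ) : jL3 l < nN :=
  cond_lt (by decide) (cond_lt (by decide) (cond_lt (by decide) (cond_lt (by decide) (cond_lt (by decide)
    (by decide)))))

theorem w2_spec : allRel cd2 rels2 = true ∧ eqWW cd2 [1, 2, 3, 4, 2, 1] [5, 6] = true ∧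
    eqWW cd2 [2, 0, 3, 2, 0, 4, 2] [7] = true := by
  have h := vw2
  unfold chkW2 at h
  simp only [Bool.and_eq_true] at h
  exact h

theorem wv_mem {Γ : Type*} [Group Γ] (val : ℕ → Γ) (C : ℕ) (w : List ℕ) (hw : ∀ c ∈ w, c < C) :
    wv val w ∈ closure {y | ∃ c < C, y = val c} := by
  induction w with
  | nil => rw [wv_nil]; exact one_mem _
  | cons c w ih =>
    rw [wv_cons]
    exact mul_mem (Subgroup.subset_closure ⟨c, hw c List.mem_cons_self, rfl⟩)
      (ih (fun d hd => hw d (List.mem_cons_of_mem _ hd)))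

/-- the order of the image of a subgroup. -/
theorem card_map_factor {G H : Type*} [Group G] [Group H] [Finite G] (f : G →* H) (K : Subgroup G) :
    ∃ k, 1 ≤ k ∧ k ≤ Nat.card f.ker ∧ k * Nat.card (K.map f) = Nat.card K := by
  let ψ : K →* H := f.comp K.subtype
  have h1 := Subgroup.card_mul_index ψ.ker
  rw [Subgroup.index_ker] at h1
  have h2 : ψ.range = K.map f := by
    rw [← MonoidHom.map_range, Subgroup.range_subtype]
  rw [h2] at h1
  refine ⟨Nat.card ψ.ker, Nat.card_pos, ?_, h1⟩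
  exact Nat.card_le_card_of_injective
    (fun q : ψ.ker => (⟨(q : K), MonoidHom.mem_ker.2 (MonoidHom.mem_ker.1 q.2)⟩ : f.ker))
    (by
      intro q q' h
      apply Subtype.ext
      apply Subtype.ext
      exact congrArg (fun r : f.ker => (r : G)) h)

section field4
variable {F : Type*} [Field F] [Fintype F] (hF : Fintype.card F = 4) (ω : F) (hω : ω ^ 2 + ω + 1 = 0)
include hF hω

theorem pj_of_scalar (y : threeJ3 F ω) (hy : mat ω y = decM ω wC) : pj ω y = 1 := by
  rw [pj_eq_one_iff, Subgroup.mem_center_iff]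
  intro g
  apply mat_inj ω
  rw [map_mul, map_mul, hy, decM_w (two_eq_zero hF) ω hω]
  simp

theorem card_ker_pj : Nat.card (pj ω).ker = 3 := by
  rw [QuotientGroup.ker_mk']
  exact (j3_main hF ω hω).1

theorem finite_threeJ3 : Finite (threeJ3 F ω) :=
  Nat.finite_of_card_ne_zero (by rw [(j3_main hF ω hω).2.1]; norm_num)

theorem orderOf_pj_word {x0 x1 x2 : threeJ3 F ω} {c0 c1 c2 : ℕ} (h0 : mat ω x0 = decM ω c0)
    (h1 : mat ω x1 = decM ω c1) (h2' : mat ω x2 = decM ω c2) (p : List ℕ) (q : ℕ) (hq : q.Prime) (v : ℕ)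
    (hv : v < 2 ^ 18) (hone : isOne c0 c1 c2 p q = true) (hnp : notProp (appPk c0 c1 c2 p 1 v) v = true) :
    orderOf (pj ω (wd x0 x1 x2 p)) = q := by
  have : Fact q.Prime := ⟨hq⟩
  apply orderOf_eq_prime
  · rw [← map_pow, rel_of_isOne hF ω hω h0 h1 h2' p q hone, map_one]
  · intro h
    rw [pj_eq_one_iff] at h
    have := not_center_of_notProp hF ω hω h0 h1 h2' p 1 v hv hnp
    rw [pow_one] at this
    exact this h

/-- elements of orders 5, 17 and 19. -/
theorem exists_orders : (∃ a : J3 F ω, orderOf a = 5) ∧ (∃ a : J3 F ω, orderOf a = 17) ∧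
    ∃ a : J3 F ω, orderOf a = 19 := by
  have h2 := two_eq_zero hF
  obtain ⟨κ, hκ⟩ := exists_kappa h2 ω hω
  have hcl := class_mem h2 ω hω κ hκ
  choose! y g hy hg using hcl
  obtain ⟨su, hsu, hsue⟩ := exists_su h2 ω hω
  have hv := vcyc
  simp only [Bool.and_eq_true] at hv
  obtain ⟨a1, a2, a3, a4, a5, a6⟩ := hv
  have kf := hκ jf (by decide)
  have hu : mat ω (⟨su, hsu⟩ : threeJ3 F ω) = decM ω uC := hsue
  exact ⟨⟨_, orderOf_pj_word hF ω hω kf kf kf [2] 5 (by norm_num) 2 (by norm_num) a1 a2⟩,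
    ⟨_, orderOf_pj_word hF ω hω (hκ jz (by decide)) kf (hy mg (by decide)) _ 17 (by norm_num) 1 (by norm_num) a3 a4⟩,
    ⟨_, orderOf_pj_word hF ω hω hu hu hu [2] 19 (by norm_num) 1 (by norm_num) a5 a6⟩⟩

/-- all involutions lift to involutions. -/
theorem ls_J3 : ∀ t : J3 F ω, t * t = 1 → LS t := by
  have h2 := two_eq_zero hF
  obtain ⟨κ, hκ⟩ := exists_kappa h2 ω hω
  have hconj := (j3_centralizer hF ω hω).1
  have h1 := kap_one h2 ω hω κ hκ
  have hv := ve8
  unfold chkE8 at hv
  simp only [Bool.and_eq_true] at hv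
  obtain ⟨m1, m2, m3, m4, s1, s2, s3, s4, s5, s6⟩ := hv
  have hinv : ∀ j < nC, j ≠ jidC → eqMul (dC j) (dC j) (dC jidC) = true → orderOf (pj ω (κ j)) = 2 := by
    intro j hj hne he
    have hsq : κ j * κ j = 1 := by
      rw [← h1]
      exact lift_mul h2 ω hω (hκ j hj) (hκ j hj) (hκ _ (by decide)) he
    apply orderOf_eq_prime
    · rw [← map_pow, pow_two, hsq, map_one]
    · intro h
      have : κ j = 1 := pj_inj2 hF ω hω ⟨1, by rw [pow_one, pow_two]; exact hsq⟩ ⟨0, by simp⟩ (by rw [h, map_one])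
      rw [← h1] at this
      exact hne (kap_inj h2 ω hω κ hκ _ hj _ (by decide) this)
  have hz2 := z_sq hF ω hω κ hκ
  have hou : orderOf (pj ω (κ jz)) = 2 := by
    apply orderOf_eq_prime
    · rw [← map_pow, hz2, map_one]
    · intro h
      exact z_ne_one hF ω hω κ hκ
        (pj_inj2 hF ω hω ⟨1, by simpa using hz2⟩ ⟨0, by simp⟩ (by rw [h, map_one]))
  have hex : ∀ s : J3 F ω, orderOf s = 2 → ∃ g, g * pj ω (κ jz) * g⁻¹ = s := by
    intro s hs
    exact isConj_iff.1 (hconj _ _ hou hs)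
  have hmul : ∀ a b c, a < nC → b < nC → c < nC → eqMul (dC a) (dC b) (dC c) = true →
      pj ω (κ a) * pj ω (κ b) = pj ω (κ c) := by
    intro a b c ha hb hc he
    rw [← map_mul, lift_mul h2 ω hω (hκ a ha) (hκ b hb) (hκ c hc) he]
  have hu : LS (pj ω (κ jz)) := by
    apply LS.pure (pj ω (κ jz)) (pj ω (κ 1)) (pj ω (κ 81))
    · rw [← map_mul, ← pow_two, hz2, map_one]
    · intro t ht
      simp only [List.mem_cons, List.not_mem_nil, or_false] at ht
      rcases ht with rfl | rfl | rfl | rfl | rfl | rfl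
      · exact hex _ (hinv 1 (by decide) (by decide) s1)
      · exact hex _ (hinv 81 (by decide) (by decide) s2)
      · rw [hmul jz 1 4 (by decide) (by decide) (by decide) m1]
        exact hex _ (hinv 4 (by decide) (by decide) s3)
      · rw [hmul jz 81 1878 (by decide) (by decide) (by decide) m2]
        exact hex _ (hinv 1878 (by decide) (by decide) s4)
      · rw [hmul 1 81 86 (by decide) (by decide) (by decide) m3]
        exact hex _ (hinv 86 (by decide) (by decide) s5)
      · rw [hmul 1 81 86 (by decide) (by decide) (by decide) m3,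
          hmul jz 86 1877 (by decide) (by decide) (by decide) m4]
        exact hex _ (hinv 1877 (by decide) (by decide) s6)
  intro t ht
  by_cases ht1 : t = 1
  · rw [ht1]; exact LS.one
  · obtain ⟨g, rfl⟩ := hex t (orderOf_eq_prime (by rw [pow_two]; exact ht) ht1)
    exact LS.conj g _ hu

end field4

end Cfsg.Agent.Lib.Helper10.J3
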