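import Cfsg.Agent.Lib.Helper10.J3M.MainA
import Cfsg.Agent.Lib.Helper41.SchurCore

/-!
The Schur multiplier of the third Janko group is cyclic of order three.
-/

set_option autoImplicit false

namespace Cfsg.Agent.Lib.Helper10.J3

open Cfsg Cfsg.Spor Matrix Subgroup Cfsg.Agent.Lib.Helper9 Cfsg.Agent.Lib.Helper10.TCS
open scoped commutatorElement

section field4
variable {F : Type*} [Field F] [Fintype F] (hF : Fintype.card F = 4) (ω : F) (hω : ω ^ 2 + ω + 1 = 0)
include hF hω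

/-- the data for the prime two. -/
theorem data_two : ∃ g0 g1 g2 x : J3 F ω, (∀ w ∈ rels2, wv (lv5 g0 g1 g2 x) w = 1) ∧
    1920 ≤ Nat.card (closure {y | ∃ c < 5, y = lv5 g0 g1 g2 x c}) := by
  have h2 := two_eq_zero hF
  have := finite_threeJ3 hF ω hω
  obtain ⟨κ, hκ⟩ := exists_kappa h2 ω hω
  have m := w2_spec
  have h1 := kap_one h2 ω hω κ hκ
  have hrel := allRel_spec cd2 rels2 m.1
  have hw : ∀ w w', eqWW cd2 w w' = true → wv (fun l => κ (jL2 l)) w = wv (fun l => κ (jL2 l)) w' :=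
    fun w w' h => word_eq h2 ω hω hκ jL2 jL2_lt h
  have hinv : κ 3814 = (κ ja0)⁻¹ := by
    have := hw [0, 1] [] (hrel _ (by simp [rels2]))
    rw [wv_cons, wv_cons, wv_nil, mul_one] at this
    exact eq_inv_of_mul_eq_one_right this
  have hlet : ∀ l < 5, pj ω (κ (jL2 l)) = lv5 (pj ω (κ ja0)) (pj ω (κ ja1)) (pj ω (κ ja2)) (pj ω (κ 391)) l := by
    intro l hl
    interval_cases l
    · rfl
    · show pj ω (κ 3814) = (pj ω (κ ja0))⁻¹
      rw [hinv, map_inv]
    · rfl
    · rfl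
    · rfl
  have hwv : ∀ w : List ℕ, (∀ c ∈ w, c < 5) →
      wv (lv5 (pj ω (κ ja0)) (pj ω (κ ja1)) (pj ω (κ ja2)) (pj ω (κ 391))) w =
        pj ω (wv (fun l => κ (jL2 l)) w) := by
    intro w hlt
    rw [map_wv]
    exact wv_congr (fun c hc => (hlet c (hlt c hc)).symm)
  refine ⟨pj ω (κ ja0), pj ω (κ ja1), pj ω (κ ja2), pj ω (κ 391), ?_, ?_⟩
  · intro w hmem
    have hlt : ∀ w ∈ rels2, ∀ c ∈ w, c < 5 := by decide
    rw [hwv w (hlt w hmem), hw w [] (hrel w hmem), wv_nil, map_one]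
  · set H2 := closure {y | ∃ c < 5, y = lv5 (pj ω (κ ja0)) (pj ω (κ ja1)) (pj ω (κ ja2)) (pj ω (κ 391)) c}
      with hH2
    obtain ⟨k, hk1, hk3, hk⟩ := card_map_factor (pj ω) (Cg ω κ)
    rw [card_ker_pj hF ω hω, card_Cg h2 ω hω κ hκ] at *
    have hle : (Cg ω κ).map (pj ω) ≤ H2 := by
      unfold Cg
      rw [MonoidHom.map_closure, closure_le]
      rintro _ ⟨_, ⟨k, hk, rfl⟩, rfl⟩
      interval_cases k
      · have e := hw _ _ m.2.1
        have e2 : wv (fun l => κ (jL2 l)) [5, 6] = κ jw1 * κ cg0 := by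
          rw [wv_cons, wv_cons, wv_nil, mul_one]; rfl
        have e3 : pj ω (κ (cG 0)) = pj ω (wv (fun l => κ (jL2 l)) [1, 2, 3, 4, 2, 1]) := by
          have hs : pj ω (κ jw1) = 1 :=
            pj_of_scalar hF ω hω (κ jw1) (by rw [hκ jw1 (by decide), jw1_ok])
          rw [e, e2, map_mul, hs, one_mul]
          rfl
        show pj ω (κ (cG 0)) ∈ H2
        rw [e3, ← hwv _ (by decide)]
        exact wv_mem _ 5 _ (by decide)
      · have e := hw _ _ m.2.2
        have e2 : wv (fun l => κ (jL2 l)) [7] = κ cg1 := by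
          rw [wv_cons, wv_nil, mul_one]; rfl
        have e3 : pj ω (κ (cG 1)) = pj ω (wv (fun l => κ (jL2 l)) [2, 0, 3, 2, 0, 4, 2]) := by
          rw [e, e2]
          rfl
        show pj ω (κ (cG 1)) ∈ H2
        rw [e3, ← hwv _ (by decide)]
        exact wv_mem _ 5 _ (by decide)
    have : Finite (J3 F ω) := Nat.finite_of_card_ne_zero (by rw [(j3_main hF ω hω).2.2.1]; norm_num)
    have h5 := Subgroup.card_le_of_le hle
    have h6 : 5760 ≤ 3 * Nat.card ((Cg ω κ).map (pj ω)) := by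
      rw [← hk]
      exact Nat.mul_le_mul_right _ hk3
    omega

/-- the data for the prime three. -/
theorem data_three : ∃ x t : J3 F ω, (∀ w ∈ base3, wv (lv6 x t 1) w = 1) ∧ wv (lv6 x t 1) r36 = 1 ∧
    1944 ≤ Nat.card (closure ({x, t} : Set (J3 F ω))) ∧
    Nat.Coprime (closure ({x, t} : Set (J3 F ω))).index 3 := by
  have h2 := two_eq_zero hF
  have := finite_threeJ3 hF ω hω
  obtain ⟨η, hη, hcard⟩ := exists_eta h2 ω hω
  have m := w3_spec
  have hrel := allRel_spec cd3 base3 m.1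
  have hw : ∀ w w', eqWW cd3 w w' = true → wv (fun l => η (jL3 l)) w = wv (fun l => η (jL3 l)) w' :=
    fun w w' h => word_eq h2 ω hω hη jL3 jL3_lt h
  have h1 : η jidN = 1 := by
    apply mat_inj ω
    rw [hη jidN (by decide), map_one, m.2.2.2.2.2.2.2, decM_id h2 ω hω]
  have hxi : η nxi = (η nx)⁻¹ := by
    have := hw [0, 1] [] m.2.2.1
    rw [wv_cons, wv_cons, wv_nil, mul_one] at this
    exact eq_inv_of_mul_eq_one_right this
  have hti : η nti = (η nt)⁻¹ := by
    have := hw [2, 3] [] m.2.2.2.1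
    rw [wv_cons, wv_cons, wv_nil, mul_one] at this
    exact eq_inv_of_mul_eq_one_right this
  have hsc : pj ω (η nw) = 1 := pj_of_scalar hF ω hω _ (by rw [hη nw (by decide), m.2.2.2.2.2.2.1])
  have hlet : ∀ l < 5, pj ω (η (jL3 l)) = lv6 (pj ω (η nx)) (pj ω (η nt)) 1 l := by
    intro l hl
    interval_cases l
    · rfl
    · show pj ω (η nxi) = (pj ω (η nx))⁻¹
      rw [hxi, map_inv]
    · rfl
    · show pj ω (η nti) = (pj ω (η nt))⁻¹
      rw [hti, map_inv]
    · exact hsc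
  have hwv : ∀ w : List ℕ, (∀ c ∈ w, c < 5) →
      wv (lv6 (pj ω (η nx)) (pj ω (η nt)) 1) w = pj ω (wv (fun l => η (jL3 l)) w) := by
    intro w hlt
    rw [map_wv]
    exact wv_congr (fun c hc => (hlet c (hlt c hc)).symm)
  have hmap : (closure {y : threeJ3 F ω | ∃ k < 2, y = η (nG k)}).map (pj ω) =
      closure ({pj ω (η nx), pj ω (η nt)} : Set (J3 F ω)) := by
    rw [MonoidHom.map_closure]
    congr 1
    ext y
    constructor
    · rintro ⟨_, ⟨k, hk, rfl⟩, rfl⟩
      interval_cases k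
      · left; rfl
      · right; rfl
    · rintro (rfl | rfl)
      · exact ⟨_, ⟨0, by norm_num, rfl⟩, rfl⟩
      · exact ⟨_, ⟨1, by norm_num, rfl⟩, rfl⟩
  obtain ⟨k, hk1, hk3, hk⟩ := card_map_factor (pj ω) (closure {y : threeJ3 F ω | ∃ k < 2, y = η (nG k)})
  rw [card_ker_pj hF ω hω, hcard, hmap] at *
  have hidx := Subgroup.card_mul_index (closure ({pj ω (η nx), pj ω (η nt)} : Set (J3 F ω)))
  rw [(j3_main hF ω hω).2.2.1] at hidx
  refine ⟨pj ω (η nx), pj ω (η nt), ?_, ?_, ?_, ?_⟩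
  · intro w hmem
    have hlt : ∀ w ∈ base3, ∀ c ∈ w, c < 5 := by decide
    rw [hwv w (hlt w hmem), hw w [] (hrel w hmem), wv_nil, map_one]
  · rw [hwv r36 (by decide), hw _ _ m.2.1, wv_cons, wv_nil, mul_one]
    exact hsc
  · have h6 : 5832 ≤ 3 * Nat.card (closure ({pj ω (η nx), pj ω (η nt)} : Set (J3 F ω))) := by
      rw [← hk]
      exact Nat.mul_le_mul_right _ hk3
    omega
  · generalize Nat.card (closure ({pj ω (η nx), pj ω (η nt)} : Set (J3 F ω))) = r at *
    generalize (closure ({pj ω (η nx), pj ω (η nt)} : Set (J3 F ω))).index = i at *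
    interval_cases k
    · have : r = 5832 := by omega
      subst this
      omega
    · have : r = 2916 := by omega
      subst this
      omega
    · have : r = 1944 := by omega
      subst this
      have : i = 25840 := by omega
      subst this
      norm_num

/-- the triple cover is a stem extension. -/
theorem stem_pj : IsStemExtension (pj ω) := by
  have h2 := two_eq_zero hF
  refine ⟨QuotientGroup.mk'_surjective _, by rw [QuotientGroup.ker_mk'], ?_⟩
  rw [QuotientGroup.ker_mk']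
  obtain ⟨a, ha, hae⟩ := memA h2 ω hω (0, 1)
  obtain ⟨d, hd, hde⟩ := memD h2 ω hω (0, 1)
  obtain ⟨-, -, -, -, -, -, ⟨z, hz, hze⟩, -, -⟩ := structure_threeJ3 h2 ω hω
  have i1 : ix ((0, 1) : F9) = 1 := by decide
  rw [i1] at hae hde
  have hv := vcomm
  rw [Bool.and_eq_true] at hv
  have e1 := eqMul_sound h2 ω hω hv.1
  have e2 := eqMul3_sound h2 ω hω hv.2
  let A : threeJ3 F ω := ⟨a, ha⟩
  let D : threeJ3 F ω := ⟨d, hd⟩
  let Z : threeJ3 F ω := ⟨z, hz⟩
  have hA : mat ω A = decM ω (gC 0 1) := hae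
  have hD : mat ω D = decM ω (gC 2 1) := hde
  have hZ : mat ω Z = ω • (1 : Matrix F9 F9 F) := hze
  have hcomm : A * D = Z * D * A := by
    apply mat_inj ω
    rw [map_mul, map_mul, map_mul, hA, hD, hZ, e2, ← e1, decM_w h2 ω hω]
  have hZc : Z = ⁅A, D⁆ := by
    rw [commutatorElement_def, hcomm]
    group
  have hZmem : Z ∈ commutator (threeJ3 F ω) := by
    rw [hZc]
    exact Subgroup.commutator_mem_commutator (Subgroup.mem_top _) (Subgroup.mem_top _)
  intro c hc
  rcases center_scalar hF ω hω c hc with h | h | h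
  · have : c = 1 := mat_inj ω (by rw [map_one]; exact h)
    rw [this]
    exact one_mem _
  · have : c = Z := mat_inj ω (by rw [hZ]; exact h)
    rw [this]
    exact hZmem
  · have : c = Z * Z := mat_inj ω (by
      rw [map_mul, hZ]
      have h' : mat ω c = ω ^ 2 • (1 : Matrix F9 F9 F) := h
      rw [h', pow_two]
      simp [mul_smul])
    rw [this]
    exact mul_mem hZmem hZmem

theorem card_ker_le (Γ : Type _) [Group Γ] [Finite Γ] (σ : Γ →* J3 F ω) (hσ : IsStemExtension σ)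
    (H2 : ∀ z ∈ σ.ker, ∃ y ∈ σ.ker, z = y * y) : Nat.card σ.ker ≤ 3 := by
  have hG := (j3_main hF ω hω).2.2.1
  obtain ⟨⟨a5, h5⟩, ⟨a17, h17⟩, ⟨a19, h19⟩⟩ := exists_orders hF ω hω
  have hidx : ∀ (a : J3 F ω) (q n : ℕ), orderOf a = q → q * n = 50232960 → 0 < q → (zpowers a).index = n := by
    intro a q n ha hq hpos
    have := Subgroup.card_mul_index (zpowers a)
    rw [Nat.card_zpowers, ha, hG, ← hq] at this
    exact Nat.eq_of_mul_eq_mul_left hpos this
  have hexp : ∀ z ∈ σ.ker, z ^ 31104 = 1 := by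
    intro z hz
    have e5 := pow_index_cyclic σ hσ a5 z hz
    have e17 := pow_index_cyclic σ hσ a17 z hz
    have e19 := pow_index_cyclic σ hσ a19 z hz
    rw [hidx a5 5 10046592 h5 (by norm_num) (by norm_num)] at e5
    rw [hidx a17 17 2954880 h17 (by norm_num) (by norm_num)] at e17
    rw [hidx a19 19 2643840 h19 (by norm_num) (by norm_num)] at e19
    have g1 := pow_gcd_eq_one.2 ⟨e5, e17⟩
    have g2 := pow_gcd_eq_one.2 ⟨g1, e19⟩
    have : (Nat.gcd (Nat.gcd 10046592 2954880) 2643840) = 31104 := by norm_num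
    rwa [this] at g2
  have key : ∀ j : ℕ, ∀ z ∈ σ.ker, ∃ y ∈ σ.ker, z = y ^ (2 ^ j) := by
    intro j
    induction j with
    | zero => intro z hz; exact ⟨z, hz, by simp⟩
    | succ j ih =>
      intro z hz
      obtain ⟨y, hy, rfl⟩ := ih z hz
      obtain ⟨w, hw, rfl⟩ := H2 y hy
      exact ⟨w, hw, by rw [← pow_two, ← pow_mul, pow_succ, mul_comm]⟩
  have h3 : ∀ z, σ z = 1 → z ^ 243 = 1 := by
    intro z hz
    obtain ⟨y, hy, rfl⟩ := key 7 z (MonoidHom.mem_ker.2 hz)
    rw [← pow_mul, show 2 ^ 7 * 243 = 31104 by norm_num]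
    exact hexp y hy
  obtain ⟨x, t, hb, h6, hc, hi⟩ := data_three hF ω hω
  exact three_part σ hσ h3 x t hb h6 hc hi

theorem multiplier_J3 : HasCyclicSchurMultiplier (J3 F ω) 3 := by
  have := finite_threeJ3 hF ω hω
  have hG := (j3_main hF ω hω).2.2.1
  have : Fact (Nat.Prime 3) := ⟨by norm_num⟩
  have e : (pj ω).ker ≃* Multiplicative (ZMod 3) :=
    mulEquivOfPrimeCardEq (p := 3) (card_ker_pj hF ω hω) (by simp)
  apply Cfsg.Agent.Lib.Helper41.hasSchurMultiplier_of_card_le (threeJ3 F ω) (pj ω) (stem_pj hF ω hω) e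
  intro Γ _ _ σ hσ
  have hc : Nat.card (Multiplicative (ZMod 3)) = 3 := by simp
  rw [hc]
  apply card_ker_le hF ω hω Γ σ hσ
  apply exists_sqrt_of_exp2 _ Γ σ hσ
  intro Γ' _ _ σ' hσ' hex z hz
  obtain ⟨g0, g1, g2, x, hrel, hcard⟩ := data_two hF ω hω
  exact two_part σ' hσ' (fun z hz => hex z (MonoidHom.mem_ker.2 hz)) (ls_J3 hF ω hω) g0 g1 g2 x hrel hcard
    26163 (by decide) (by rw [hG]) z (MonoidHom.mem_ker.1 hz)

end field4

end Cfsg.Agent.Lib.Helper10.J3
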