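import Cfsg.Agent.Lib.Helper10.J3M.VN
import Cfsg.Agent.Lib.Helper10.J3M.VM
import Cfsg.Agent.Lib.Helper10.J3.CentC

/-!
Words of matrix codes, and the enumeration of the normaliser of a Sylow 3-subgroup of the triple cover of the third
Janko group.
-/

set_option autoImplicit false

namespace Cfsg.Agent.Lib.Helper10.J3

open Cfsg.Spor Matrix Cfsg.Agent.Lib.Helper10.TCS

theorem allRel_spec (code : ℕ → ℕ) : ∀ L : List (List ℕ), allRel code L = true → ∀ w ∈ L, eqWW code w [] = true := by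
  intro L
  induction L with
  | nil => intro _ w hw; simp at hw
  | cons a L ih =>
    intro h w hw
    unfold allRel at h
    rw [Bool.and_eq_true] at h
    rcases List.mem_cons.1 hw with rfl | hw
    · exact h.1
    · exact ih h.2 w hw

section field
variable {F : Type*} [Field F] (h2 : (2 : F) = 0) (ω : F) (hω : ω ^ 2 + ω + 1 = 0)

theorem mulVec_basis (A : Matrix F9 F9 F) (z w : F9) : (A *ᵥ decV ω (2 ^ ix z)) w = A w z := by
  unfold Matrix.mulVec dotProduct
  rw [Finset.sum_eq_single z]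
  · rw [decV_two_pow ω, if_pos rfl, mul_one]
  · intro b _ hb
    rw [decV_two_pow ω, if_neg hb, mul_zero]
  · intro hz
    exact absurd (Finset.mem_univ z) hz

include h2 hω

theorem appW_sound (code : ℕ → ℕ) (w : List ℕ) (v : ℕ) :
    decV ω (appW code w v) = wv (fun l => decM ω (code l)) w *ᵥ decV ω v := by
  induction w with
  | nil => simp [appW, wv]
  | cons l t ih =>
    rw [wv_cons, ← Matrix.mulVec_mulVec, ← ih, decM_mulVec h2 ω hω]
    rfl

theorem wv_eq_of_eqWW {code : ℕ → ℕ} {w w' : List ℕ} (h : eqWW code w w' = true) :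
    wv (fun l => decM ω (code l)) w = wv (fun l => decM ω (code l)) w' := by
  have key : ∀ j < 9, appW code w (2 ^ j) = appW code w' (2 ^ j) := by
    unfold eqWW at h
    simp only [Bool.and_eq_true, Nat.beq_eq] at h
    obtain ⟨h0, h1, h2, h3, h4, h5, h6, h7, h8⟩ := h
    intro j hj
    interval_cases j
    exacts [h0, h1, h2, h3, h4, h5, h6, h7, h8]
  ext a z
  have e1 := mulVec_basis ω (wv (fun l => decM ω (code l)) w) z a
  have e2 := mulVec_basis ω (wv (fun l => decM ω (code l)) w') z a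
  rw [← appW_sound h2 ω hω] at e1 e2
  rw [← e1, ← e2, key _ (ix_lt z)]

theorem word_eq {κ : ℕ → threeJ3 F ω} {d : ℕ → ℕ} {n : ℕ} (hκ : ∀ j < n, mat ω (κ j) = decM ω (d j))
    (jL : ℕ → ℕ) (hjL : ∀ l, jL l < n) {w w' : List ℕ} (h : eqWW (fun l => d (jL l)) w w' = true) :
    wv (fun l => κ (jL l)) w = wv (fun l => κ (jL l)) w' := by
  apply mat_inj ω
  rw [map_wv, map_wv]
  have e : (fun c => mat ω (κ (jL c))) = fun l => decM ω (d (jL l)) := by
    funext c
    exact hκ _ (hjL c)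
  rw [e]
  exact wv_eq_of_eqWW h2 ω hω h

theorem memB (Z : F9) (hZ : Z ≠ 0) : ∃ x ∈ threeJ3 F ω, (x : Matrix F9 F9 F) = decM ω (gC 3 (ix Z)) := by
  obtain ⟨x, hx⟩ := exists_unit h2 ω hω (g_inv 3 (by norm_num) (ix Z) (ix_lt Z))
  refine ⟨x, Subgroup.subset_closure ?_, hx⟩
  show (x : Matrix F9 F9 F) ∈ j3Gens F ω
  rw [hx, decM_gB h2 ω hω Z hZ]
  exact Or.inl (Or.inr ⟨Z, hZ, rfl⟩)

omit h2 hω in
theorem chkN_all : ∀ j < nN, (nTb j 0 < nN ∧ eqMul (dN (nG 0)) (dN j) (dN (nTb j 0)) = true) ∧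
    (nTb j 1 < nN ∧ eqMul (dN (nG 1)) (dN j) (dN (nTb j 1)) = true) ∧
    (j = jidN ∨ (nPp j < nN ∧ nTb (nPp j) (nKk j) = j ∧ nDd (nPp j) < nDd j)) ∧
    (nN ≤ j + 1 ∨ dN j < dN (j + 1)) := by
  intro j hj
  have hj' : j < 5832 := hj
  have h : chkN1 j = true := allB_spec 13 0 _ vn j (by omega) (by norm_num; omega)
  unfold chkN1 at h
  rw [Bool.or_eq_true] at h
  rcases h with h | h
  · rw [Nat.ble_eq] at h
    exact absurd hj (not_lt.mpr h)
  · simp only [Bool.and_eq_true, Bool.or_eq_true, Nat.beq_eq, Nat.blt_eq, Nat.ble_eq] at h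
    exact h

omit h2 hω in
theorem dN_inj : ∀ i < nN, ∀ j < nN, dN i = dN j → i = j := by
  apply inj_of_step
  intro i hi
  rcases (chkN_all i (by omega)).2.2.2 with h | h
  · omega
  · exact h

omit h2 hω in
theorem dN_lt (j : ℕ) : dN j < 2 ^ 162 := by
  unfold dN look
  exact land_lt _ 162

omit h2 hω in
theorem nKk_lt (j : ℕ) : nKk j < 2 := land_lt _ 1

theorem ntabEq : ∀ j < nN, ∀ k < 2, nTb j k < nN ∧
    decM ω (dN (nG k)) * decM ω (dN j) = decM ω (dN (nTb j k)) := by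
  intro j hj k hk
  have h := chkN_all j hj
  interval_cases k
  · exact ⟨h.1.1, eqMul_sound h2 ω hω h.1.2⟩
  · exact ⟨h.2.1.1, eqMul_sound h2 ω hω h.2.1.2⟩

omit h2 hω in
theorem w3_spec : allRel cd3 base3 = true ∧ eqWW cd3 r36 [4] = true ∧ eqWW cd3 [0, 1] [] = true ∧
    eqWW cd3 [2, 3] [] = true ∧ dN nx = gC 2 3 ∧ dN nt = gC 3 4 ∧ dN nw = wC ∧ dN jidN = idC := by
  have h := vw3
  unfold chkW3 at h
  simp only [Bool.and_eq_true, Nat.beq_eq] at h
  exact h

theorem enumN (s : ℕ → threeJ3 F ω) (hs : ∀ k < 2, mat ω (s k) = decM ω (dN (nG k))) :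
    Enum (mat ω) s 2 (fun j => decM ω (dN j)) nN jidN where
  tab := by
    intro j hj k hk
    obtain ⟨a, b⟩ := ntabEq h2 ω hω j hj k hk
    exact ⟨_, a, by rw [hs k hk]; exact b⟩
  one := by
    show decM ω (dN jidN) = 1
    rw [w3_spec.2.2.2.2.2.2.2, decM_id h2 ω hω]
  jid_lt := by decide
  tree := by
    refine ⟨nDd, ?_⟩
    intro j hj hj0
    rcases (chkN_all j hj).2.2.1 with h | h
    · exact absurd h hj0
    · obtain ⟨_, c⟩ := ntabEq h2 ω hω (nPp j) h.1 (nKk j) (nKk_lt j)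
      refine ⟨nPp j, h.1, nKk j, nKk_lt j, h.2.2, ?_⟩
      show mat ω (s (nKk j)) * decM ω (dN (nPp j)) = decM ω (dN j)
      rw [hs _ (nKk_lt j), c, h.2.1]

theorem exists_eta [Finite F] : ∃ η : ℕ → threeJ3 F ω, (∀ j < nN, mat ω (η j) = decM ω (dN j)) ∧
    Nat.card (Subgroup.closure {y : threeJ3 F ω | ∃ k < 2, y = η (nG k)}) = 5832 := by
  obtain ⟨x0, hx0, e0⟩ := memD h2 ω hω (1, 0)
  obtain ⟨x1, hx1, e1⟩ := memB h2 ω hω (1, 1) (by decide)
  have m := w3_spec
  have i0 : ix ((1, 0) : F9) = 3 := by decide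
  have i1 : ix ((1, 1) : F9) = 4 := by decide
  rw [i0, ← m.2.2.2.2.1] at e0
  rw [i1, ← m.2.2.2.2.2.1] at e1
  have D := enumN h2 ω hω (fun k => if k = 0 then ⟨x0, hx0⟩ else ⟨x1, hx1⟩) (by
    intro k hk
    interval_cases k
    · exact e0
    · exact e1)
  have := D.list_mem
  choose! f hf using this
  have hfm : ∀ j < nN, mat ω (f j) = decM ω (dN j) := fun j hj => (hf j hj).2
  refine ⟨f, hfm, ?_⟩
  have D' := enumN h2 ω hω (fun k => f (nG k)) (by
    intro k hk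
    interval_cases k
    · exact hfm _ (by decide)
    · exact hfm _ (by decide))
  exact D'.card (mat_inj ω)
    (fun j hj j' hj' h => dN_inj j hj j' hj' (decM_inj h2 ω hω (dN_lt _) (dN_lt _) h))

end field

end Cfsg.Agent.Lib.Helper10.J3
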